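import Cfsg.Agent.Lib.Involution.Isolated
import Cfsg.Agent.Lib.Solvable.Cores
import Cfsg.Agent.S1181
import Cfsg.Prelude.Def_CaseTheorems

/-!
# Odd core and central commutators
-/

set_option autoImplicit false

namespace CfsgLib.Involution.ZStar

variable {G : Type*} [Group G] [Finite G]

theorem oddCore_normal : (Cfsg.oddCore G).Normal := Cfsg.pPrimeCore_normal 2 G

theorem le_oddCore {N : Subgroup G} (hN : N.Normal) (h : Odd (Nat.card N)) : N ≤ Cfsg.oddCore G :=
  CfsgLib.Solvable.Cores.le_pPrimeCore (hn := hN) (Nat.coprime_two_right.2 h)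

theorem odd_card_oddCore : Odd (Nat.card (Cfsg.oddCore G)) :=
  Nat.coprime_two_right.1 (CfsgLib.Solvable.Cores.coprime_card_pPrimeCore 2)

theorem odd_orderOf_of_mem {g : G} (h : g ∈ Cfsg.oddCore G) : Odd (orderOf g) :=
  Odd.of_dvd_nat odd_card_oddCore (Subgroup.orderOf_dvd_natCard _ h)

/-- An element of odd order whose square lies in a subgroup lies in it. -/
theorem mem_of_sq_mem {N : Subgroup G} {r : G} (hr : Odd (orderOf r)) (h : r * r ∈ N) : r ∈ N := by
  obtain ⟨k, hk⟩ := hr
  have : r = (r * r) ^ (k + 1) := by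
    rw [← pow_two, ← pow_mul, show 2 * (k + 1) = orderOf r + 1 by omega, pow_succ,
      pow_orderOf_eq_one, one_mul]
  rw [this]; exact pow_mem h _

/-- A subgroup of index two contains the elements of odd order. -/
theorem mem_of_index_two {K : Subgroup G} (hK : K.index = 2) {r : G} (hr : Odd (orderOf r)) :
    r ∈ K :=
  mem_of_sq_mem hr (Subgroup.mul_self_mem_of_index_two hK r)

/-- The odd core of the quotient by the odd core is trivial. -/
theorem oddCore_quotient :
    haveI := oddCore_normal (G := G)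
    Cfsg.oddCore (G ⧸ Cfsg.oddCore G) = ⊥ := by
  haveI := oddCore_normal (G := G)
  set O := Cfsg.oddCore G with hO
  set π := QuotientGroup.mk' O
  have hker : π.ker = O := QuotientGroup.ker_mk' O
  have hsurj : Function.Surjective π := QuotientGroup.mk'_surjective O
  have hn : ((Cfsg.oddCore (G ⧸ O)).comap π).Normal := (Cfsg.pPrimeCore_normal 2 _).comap π
  have hle : π.ker ≤ (Cfsg.oddCore (G ⧸ O)).comap π := by
    rw [← MonoidHom.comap_bot]; exact Subgroup.comap_mono bot_le
  have hcard : Nat.card ((Cfsg.oddCore (G ⧸ O)).comap π) =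
      Nat.card π.ker * Nat.card (Cfsg.oddCore (G ⧸ O)) := by
    have h1 := Subgroup.card_mul_index ((Cfsg.oddCore (G ⧸ O)).comap π)
    rw [Subgroup.index_comap_of_surjective _ hsurj] at h1
    have h3 := Subgroup.card_mul_index (Cfsg.oddCore (G ⧸ O))
    have h4 : O.index = Nat.card (G ⧸ O) := O.index_eq_card
    refine Nat.eq_of_mul_eq_mul_right
      (Nat.pos_of_ne_zero (Cfsg.oddCore (G ⧸ O)).index_ne_zero_of_finite) ?_
    rw [h1, mul_assoc, h3, hker, ← h4, Subgroup.card_mul_index]
  have hodd : Odd (Nat.card ((Cfsg.oddCore (G ⧸ O)).comap π)) := by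
    rw [hcard, hker]
    exact odd_card_oddCore.mul odd_card_oddCore
  have hmap := Subgroup.map_mono (f := π) (le_oddCore hn hodd)
  rw [Subgroup.map_comap_eq_self_of_surjective hsurj, QuotientGroup.map_mk'_self] at hmap
  exact le_bot_iff.1 hmap

/-- Isolated involutions stay isolated in subgroups. -/
theorem isolated_subgroup {t : G} (ht : Cfsg.IsIsolatedInvolution t) {H : Subgroup G}
    (htH : t ∈ H) : Cfsg.IsIsolatedInvolution (⟨t, htH⟩ : H) := by
  refine ⟨by rw [← Subgroup.orderOf_coe]; exact ht.1, fun g hg => ?_⟩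
  exact Subtype.ext (ht.2 (g : G) (hg.map H.subtype))

/-- With trivial odd core, the quotient by a central involution has trivial odd core. -/
theorem oddCore_quotient_central (hO : Cfsg.oddCore G = ⊥) {w : G} (hw : orderOf w = 2)
    (hwc : w ∈ Subgroup.center G) [(Subgroup.zpowers w).Normal] :
    Cfsg.oddCore (G ⧸ Subgroup.zpowers w) = ⊥ := by
  set W := Subgroup.zpowers w with hW
  set π := QuotientGroup.mk' W
  have hsurj : Function.Surjective π := QuotientGroup.mk'_surjective W
  set N := (Cfsg.oddCore (G ⧸ W)).comap π with hNdef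
  have hN : N.Normal := (Cfsg.pPrimeCore_normal 2 _).comap π
  have hWN : W ≤ N := by
    rw [← QuotientGroup.ker_mk' W, ← MonoidHom.comap_bot]; exact Subgroup.comap_mono bot_le
  have hW2 : Nat.card W = 2 := by rw [hW, Nat.card_zpowers, hw]
  have hrel : W.relIndex N = Nat.card (Cfsg.oddCore (G ⧸ W)) := by
    have h1 : W = (⊥ : Subgroup (G ⧸ W)).comap π := by
      rw [MonoidHom.comap_bot, QuotientGroup.ker_mk']
    conv_lhs => rw [h1]
    rw [hNdef, Subgroup.relIndex_comap, Subgroup.map_comap_eq_self_of_surjective hsurj,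
      Subgroup.relIndex_bot_left]
  have : (W.subgroupOf N).Normal := inferInstance
  obtain ⟨K, hK⟩ := Subgroup.exists_right_complement'_of_coprime (N := W.subgroupOf N) (by
    rw [Nat.card_congr (Subgroup.subgroupOfEquivOfLe hWN).toEquiv, hW2]
    change Nat.Coprime 2 (W.relIndex N)
    rw [hrel]
    exact Nat.coprime_two_left.2 odd_card_oddCore)
  have hKi : K.index = 2 := by
    rw [hK.index_eq_card, Nat.card_congr (Subgroup.subgroupOfEquivOfLe hWN).toEquiv, hW2]
  have hKc : Nat.card K = W.relIndex N := hK.symm.index_eq_card.symm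
  have hKodd : Odd (Nat.card K) := by rw [hKc, hrel]; exact odd_card_oddCore
  have hKn : (K.map N.subtype).Normal := by
    refine ⟨?_⟩
    rintro _ ⟨a, ha, rfl⟩ g
    refine ⟨⟨g * (a : G) * g⁻¹, hN.conj_mem _ a.2 g⟩, mem_of_index_two hKi ?_, rfl⟩
    rw [← Subgroup.orderOf_coe]
    change Odd (orderOf (g * (a : G) * g⁻¹))
    rw [Dihedral.orderOf_conj, Subgroup.orderOf_coe]
    exact Odd.of_dvd_nat hKodd (Subgroup.orderOf_dvd_natCard _ ha)
  have hKbot : K = ⊥ := by
    have h1 : Odd (Nat.card (K.map N.subtype)) := by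
      rwa [Nat.card_congr (K.equivMapOfInjective _ N.subtype_injective).toEquiv.symm]
    have h2 := le_oddCore hKn h1
    rw [hO, le_bot_iff, Subgroup.map_eq_bot_iff_of_injective _ N.subtype_injective] at h2
    exact h2
  have hone : Nat.card (Cfsg.oddCore (G ⧸ W)) = 1 := by
    rw [← hrel, ← hKc, hKbot, Subgroup.card_bot]
  exact Subgroup.card_eq_one.1 hone

end CfsgLib.Involution.ZStar
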