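import Cfsg.Agent.Lib.Blocks.SecondMainBlocks
import Cfsg.Agent.Lib.Blocks.RegularVanish
import Cfsg.Agent.S0936
import Cfsg.Prelude.Def_CaseTheorems

/-!
# The principal block on sections

Values of characters in the principal block on `w * r` with `r` in the `p'`-core of `C(w)`.
-/

set_option autoImplicit false

namespace CfsgLib.Involution.ZStar

open Cfsg CfsgLib.Blocks
open scoped Classical ComplexConjugate

variable {G : Type*} [Group G] [Fintype G] {p : ℕ} {M : Ideal AlgInt}

/-- The principal block has every normal `p'`-subgroup in its kernel. -/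
theorem apply_eq_one_of_mem (hM : IsPModular p M) {ψ : IrrCharacter G}
    (hψ : ψ ∈ principalBlock M G) {N : Subgroup G} (hN : N.Normal) (hp : ¬ p ∣ Nat.card N) {w : G}
    (hw : w ∈ N) : (ψ : G → ℂ) w = (ψ : G → ℂ) 1 := by
  set f : G → ℂ := fun x => if x ∈ N then 1 else 0 with hf
  have hcl : IsClassFunction G f := fun a b =>
    if_congr (hN.mem_comm_iff.trans (by rw [inv_mul_cancel_left])) rfl rfl
  have hR : ∀ x, MemLocalRing M (f x) := fun x => by
    simp only [hf]; split
    · exact LR.one hM
    · exact LR.zero hM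
  have htriv : omega (trivChar G : G → ℂ) f = (Nat.card N : ℂ) := by
    simp [omega, hf, Nat.card_eq_fintype_card, Fintype.card_subtype]
  have hne : omega (ψ : G → ℂ) f ≠ 0 := by
    intro h0
    have h := omega_congr hM (χ := trivChar G) (ψ := ψ) hψ hcl hR
    rw [h0, sub_zero, htriv, LI.natCast_iff hM] at h
    exact hp h
  have key : ∀ v ∈ N, omega (ψ : G → ℂ) f * (ψ : G → ℂ) v = ∑ h, f h * (ψ : G → ℂ) h := by
    intro v hv
    rw [← sum_classFun_mul_char ψ hcl v]
    refine Fintype.sum_equiv (Equiv.mulLeft v) _ _ fun h => ?_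
    simp [hf, Subgroup.mul_mem_cancel_left N hv]
  exact mul_left_cancel₀ hne ((key w hw).trans (key 1 N.one_mem).symm)

/-- A character in the principal block is constant on `w * r`, `r` in the `p'`-core of `C(w)`. -/
theorem apply_section (hM : IsPModular p M) {χ : IrrCharacter G} (hχ : χ ∈ principalBlock M G)
    {w : G} (hw : ∃ k : ℕ, orderOf w = p ^ k) {N : Subgroup (Subgroup.centralizer ({w} : Set G))}
    (hN : N.Normal) (hp : ¬ p ∣ Nat.card N) {r : Subgroup.centralizer ({w} : Set G)} (hr : r ∈ N) :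
    (χ : G → ℂ) (w * (r : G)) = (χ : G → ℂ) w := by
  have : Fact p.Prime := ⟨hM.1⟩
  set f : (Subgroup.centralizer ({w} : Set G)) → ℂ := fun c => (χ : G → ℂ) (w * (c : G)) with hf
  have hcl : IsClassFunction (Subgroup.centralizer ({w} : Set G)) f := by
    intro c z
    have hz : (z : G) * w = w * (z : G) := Subgroup.mem_centralizer_singleton_iff.1 z.2
    show (χ : G → ℂ) (w * ((z : G) * (c : G) * (z : G)⁻¹)) = (χ : G → ℂ) (w * (c : G))
    rw [← mul_assoc, ← mul_assoc, ← hz, mul_assoc (z : G) w (c : G), irr_conj_apply]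
  have hexp : ∀ y, ¬ p ∣ orderOf y → f y =
      ∑ ψ ∈ (principalBlock M (Subgroup.centralizer ({w} : Set G))).toFinset, classInner f (ψ : (Subgroup.centralizer ({w} : Set G)) → ℂ) * (ψ : (Subgroup.centralizer ({w} : Set G)) → ℂ) y := by
    intro y hy
    set T : IrrCharacter (Subgroup.centralizer ({w} : Set G)) → ℂ := fun ψ => classInner f (ψ : (Subgroup.centralizer ({w} : Set G)) → ℂ) * (ψ : (Subgroup.centralizer ({w} : Set G)) → ℂ) y with hT
    have h1 : f y = ∑ ψ, T ψ := by
      conv_lhs => rw [CfsgLib.Char.IsClassFunction.eq_sum_irr hcl]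
      simp [hT]
    rw [h1, ← Finset.sum_add_sum_compl (principalBlock M (Subgroup.centralizer ({w} : Set G))).toFinset T, add_eq_left,
      ← Finset.sum_fiberwise _ (fun ψ : IrrCharacter (Subgroup.centralizer ({w} : Set G)) => blockOf M (ψ : (Subgroup.centralizer ({w} : Set G)) → ℂ)) T]
    refine Finset.sum_eq_zero fun b _ => ?_
    by_cases hb : ∃ ψ₀ : IrrCharacter (Subgroup.centralizer ({w} : Set G)), blockOf M (ψ₀ : (Subgroup.centralizer ({w} : Set G)) → ℂ) = b ∧ ψ₀ ∉ principalBlock M (Subgroup.centralizer ({w} : Set G))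
    · obtain ⟨ψ₀, rfl, hψ₀⟩ := hb
      have hnot : ¬ IsInducedBlock M (Subgroup.centralizer ({w} : Set G)) (blockOf M (ψ₀ : (Subgroup.centralizer ({w} : Set G)) → ℂ)) (principalBlock M G) := by
        intro hind
        have := (Cfsg.Agent.S0936.result p M hM (Subgroup.centralizer ({w} : Set G)) _ ⟨_, hind⟩).1 hind
        exact hψ₀ (this ▸ SameBlock_refl hM _)
      have h2 := blockPart_section_eq_zero hM hw isPBlock_principalBlock hχ
        (isPBlock_blockOf ψ₀) hnot hy
      rw [blockPart, Subsingleton.elim (Fintype.ofFinite (Subgroup.centralizer ({w} : Set G))) (inferInstance : Fintype (Subgroup.centralizer ({w} : Set G))),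
        finsum_mem_eq_toFinset_sum] at h2
      refine Eq.trans ?_ h2
      refine Finset.sum_congr ?_ fun ψ _ => rfl
      ext ψ
      simp only [Finset.mem_filter, Finset.mem_compl, Set.mem_toFinset]
      constructor
      · rintro ⟨-, he⟩
        rw [← he]; exact SameBlock_refl hM _
      · intro hψ
        refine ⟨fun hψp => hψ₀ ?_, (blockOf_eq_of_sameBlock hM hψ).symm⟩
        exact SameBlock_trans hM hψp (SameBlock_symm hψ)
    · push Not at hb
      refine Finset.sum_eq_zero fun ψ hψ => ?_
      simp only [Finset.mem_filter, Finset.mem_compl, Set.mem_toFinset] at hψ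
      exact absurd (hb ψ hψ.2) hψ.1
  have hone : (χ : G → ℂ) w = f 1 := by simp [hf]
  rw [hone]
  change f r = f 1
  rw [hexp r fun h => hp (h.trans (Subgroup.orderOf_dvd_natCard N hr)),
    hexp 1 (by rw [orderOf_one]; exact hM.1.not_dvd_one)]
  exact Finset.sum_congr rfl fun ψ hψ => by
    rw [apply_eq_one_of_mem hM (Set.mem_toFinset.1 hψ) hN hp hr]

/-- Block orthogonality between the identity and a singular element. -/
theorem sum_degree_mul_eq_zero (hM : IsPModular p M) {B : Set (IrrCharacter G)}
    (hB : IsPBlock M B) {g : G} (hg : p ∣ orderOf g) :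
    ∑ χ ∈ B.toFinset, (χ : G → ℂ) 1 * (χ : G → ℂ) g = 0 := by
  have h := eq_zero_of_singular hM (e := fun x => blockCoeff B x) (fun x => blockCoeff_LR hM hB x)
    (fun x => by rw [blockCoeff_conv, Set.inter_self]) (blockCoeff_isClassFunction B) (g := g⁻¹)
    (by rwa [orderOf_inv])
  simp only [blockCoeff] at h
  rw [finsum_mem_eq_toFinset_sum, mul_eq_zero] at h
  have h' := h.resolve_left (inv_ne_zero CfsgLib.Char.card_ne_zero)
  refine Eq.trans (Finset.sum_congr rfl fun χ _ => ?_) h'
  rw [conj_irr, inv_inv]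

end CfsgLib.Involution.ZStar
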