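import Cfsg.Agent.Lib.Involution.ZStar.Reduction
import Cfsg.Agent.Lib.BrauerSuzuki.Main
import Cfsg.Agent.Lib.Involution.TwoGroupLifts

/-!
# Glauberman's `Z*` theorem
-/

set_option autoImplicit false

namespace CfsgLib.Involution.ZStar

open Cfsg

universe u

/-- Glauberman's `Z*` theorem: an isolated involution is central modulo the odd core. -/
theorem starCentral (G : Type u) [Group G] [Finite G] : StarCentral G :=
  starCentral_of (fun H _ _ S n e hO => CfsgLib.BrauerSuzuki.card_center_eq_two S n e hO) G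

theorem comm_mem_oddCore {G : Type u} [Group G] [Finite G] {z : G}
    (hz : Cfsg.IsIsolatedInvolution z) (g : G) : z * g * z⁻¹ * g⁻¹ ∈ Cfsg.oddCore G :=
  starCentral G z hz g

/-- The Sylow form of the `Z*` theorem. -/
theorem exists_odd_normal_of_sylow {G : Type u} [Group G] [Finite G] (P : Sylow 2 G) {t : G}
    (ht : orderOf t = 2) (htP : t ∈ P) (hiso : ∀ g : G, g * t * g⁻¹ ∈ P → g * t * g⁻¹ = t) :
    ∃ N : Subgroup G, N.Normal ∧ Odd (Nat.card N) ∧ ∀ g : G, t * g * t⁻¹ * g⁻¹ ∈ N :=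
  ⟨Cfsg.oddCore G, oddCore_normal, odd_card_oddCore,
    starCentral G t ((Isolated.isolated_iff_sylow ht htP).2 hiso)⟩

/-- In a group of 2-rank one some involution is central modulo an odd order normal subgroup. -/
theorem exists_of_rank_one {G : Type u} [Group G] [Finite G] (heven : Even (Nat.card G))
    (hrank : ∀ E : Subgroup G, ¬ IsKleinFour E) :
    ∃ z : G, orderOf z = 2 ∧ ∃ N : Subgroup G, N.Normal ∧ Odd (Nat.card N) ∧
      ∀ g : G, z * g * z⁻¹ * g⁻¹ ∈ N := by
  haveI : Fact (Nat.Prime 2) := ⟨Nat.prime_two⟩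
  obtain ⟨z, hz⟩ := exists_prime_orderOf_dvd_card' (G := G) 2 heven.two_dvd
  refine ⟨z, hz, Cfsg.oddCore G, oddCore_normal, odd_card_oddCore,
    starCentral G z ⟨hz, fun g hc => ?_⟩⟩
  by_contra hne
  set c := g * z * g⁻¹ with hc'
  have hc2 : orderOf c = 2 := (Dihedral.orderOf_conj g z).trans hz
  refine hrank (TwoGroupLifts.fourGroup z c (Dihedral.mul_self hz) (Dihedral.mul_self hc2) hc.eq)
    (TwoGroupLifts.isKleinFour_of_four (Dihedral.ne_one hz) (Dihedral.ne_one hc2) (Ne.symm hne)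
      (Dihedral.mul_self hz) (Dihedral.mul_self hc2) hc.eq fun _ => TwoGroupLifts.mem_fourGroup)

end CfsgLib.Involution.ZStar
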