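import Cfsg.Agent.Lib.Involution.ZStar.Main
import Cfsg.Agent.Lib.Involution.SylowFusionTools

/-!
# Elements without further conjugates in a Sylow 2-subgroup
-/

set_option autoImplicit false

namespace CfsgLib.Involution.ZStar

open Cfsg
open scoped Pointwise

universe u

/-- Being alone in the Sylow subgroup among its conjugates passes to quotients. -/
theorem fixed_descends {G : Type u} [Group G] [Finite G] (S : Sylow 2 G) {u : G} (hu : u ∈ S)
    (hfix : ∀ g : G, g * u * g⁻¹ ∈ S → g * u * g⁻¹ = u) (N : Subgroup G) [N.Normal]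
    (g : G ⧸ N) (hg : g * (u : G ⧸ N) * g⁻¹ ∈ (S : Subgroup G).map (QuotientGroup.mk' N)) :
    g * (u : G ⧸ N) * g⁻¹ = (u : G ⧸ N) := by
  haveI : Fact (Nat.Prime 2) := ⟨Nat.prime_two⟩
  induction g using QuotientGroup.induction_on with
  | _ g =>
  obtain ⟨s, hs, he⟩ := hg
  rw [QuotientGroup.mk'_apply, ← QuotientGroup.mk_inv, ← QuotientGroup.mk_mul,
    ← QuotientGroup.mk_mul, QuotientGroup.eq] at he
  set L := (S : Subgroup G) ⊔ N with hL
  have hgL : g * u * g⁻¹ ∈ L := by
    have := Subgroup.mul_mem_sup hs he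
    rwa [mul_inv_cancel_left] at this
  have hp : IsPGroup 2 (Subgroup.zpowers (g * u * g⁻¹)) := by
    obtain ⟨j, hj⟩ := IsPGroup.iff_orderOf.1 S.2 ⟨u, hu⟩
    rw [← Subgroup.orderOf_coe] at hj
    exact Basic.isPGroup_zpowers ((Dihedral.orderOf_conj g u).trans hj)
  obtain ⟨l, hl⟩ := Basic.exists_conj_le (S.subtype (le_sup_left : (S : Subgroup G) ≤ L))
    (hp.of_equiv (Subgroup.subgroupOfEquivOfLe (Subgroup.zpowers_le.2 hgL)).symm)
  have hls : (l : G) * (g * u * g⁻¹) * (l : G)⁻¹ ∈ S :=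
    hl ⟨g * u * g⁻¹, hgL⟩ (Subgroup.mem_zpowers _)
  have e : (l : G) * (g * u * g⁻¹) * (l : G)⁻¹ = (l : G) * g * u * ((l : G) * g)⁻¹ := by group
  have h1 : (l : G) * (g * u * g⁻¹) * (l : G)⁻¹ = u := e.trans (hfix _ (e ▸ hls))
  have hl' : (l : G) ∈ ((S : Subgroup G) : Set G) * (N : Set G) := by
    rw [← Subgroup.mul_normal]; exact l.2
  obtain ⟨t, ht, n, hn, htn⟩ := Set.mem_mul.1 hl'
  have hcomm : t * u * t⁻¹ = u := hfix t (mul_mem (mul_mem ht hu) (inv_mem ht))
  have hlt : QuotientGroup.mk' N (l : G) = QuotientGroup.mk' N t := by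
    rw [← htn, map_mul, show QuotientGroup.mk' N n = 1 from (QuotientGroup.eq_one_iff n).2 hn,
      mul_one]
  have h2 := congrArg (QuotientGroup.mk' N) h1
  rw [map_mul, map_mul, map_inv, hlt] at h2
  have h3 := congrArg (QuotientGroup.mk' N) hcomm
  rw [map_mul, map_mul, map_inv] at h3
  exact SylowFusionTools.conj_inj (h2.trans h3.symm)

/-- An element of a Sylow 2-subgroup with no other conjugate in it is central modulo the odd
core. -/
theorem comm_mem_oddCore_of_fixed {G : Type u} [Group G] [Finite G] (S : Sylow 2 G) {u : G}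
    (hu : u ∈ S) (hfix : ∀ g : G, g * u * g⁻¹ ∈ S → g * u * g⁻¹ = u) (g : G) :
    u * g * u⁻¹ * g⁻¹ ∈ Cfsg.oddCore G := by
  haveI : Fact (Nat.Prime 2) := ⟨Nat.prime_two⟩
  obtain ⟨j, hj⟩ := IsPGroup.iff_orderOf.1 S.2 ⟨u, hu⟩
  rw [← Subgroup.orderOf_coe] at hj
  have hpow : u ^ 2 ^ j = 1 := hj ▸ pow_orderOf_eq_one u
  clear hj
  induction j generalizing G with
  | zero =>
    rw [pow_zero, pow_one] at hpow
    rw [hpow]; simp
  | succ j ih =>
    haveI := oddCore_normal (G := G)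
    set π := QuotientGroup.mk' (Cfsg.oddCore G) with hπ
    have hsurj : Function.Surjective π := QuotientGroup.mk'_surjective _
    set S' := S.mapSurjective hsurj with hS'
    have hu' : π u ∈ S' := ⟨u, hu, rfl⟩
    have hfix' : ∀ a, a * π u * a⁻¹ ∈ S' → a * π u * a⁻¹ = π u :=
      fun a ha => fixed_descends S hu hfix (Cfsg.oddCore G) a ha
    have hO : Cfsg.oddCore (G ⧸ Cfsg.oddCore G) = ⊥ := oddCore_quotient
    suffices h : ∀ a, π u * a * (π u)⁻¹ * a⁻¹ = 1 by
      have := h (π g)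
      rw [← map_inv, ← map_mul, ← map_inv, ← map_mul, ← map_mul] at this
      exact (QuotientGroup.eq_one_iff _).1 this
    intro a
    by_cases hv1 : π u ^ 2 ^ j = 1
    · have := ih S' hu' hfix' a hv1
      rwa [hO, Subgroup.mem_bot] at this
    have hv : orderOf (π u ^ 2 ^ j) = 2 := by
      refine orderOf_eq_prime ?_ hv1
      rw [← pow_mul, ← pow_succ, ← map_pow, hpow, map_one]
    have hvS : π u ^ 2 ^ j ∈ S' := pow_mem hu' _
    -- the involution has no other conjugate in the Sylow subgroup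
    have hvfix : ∀ b, b * (π u ^ 2 ^ j) * b⁻¹ ∈ S' → b * (π u ^ 2 ^ j) * b⁻¹ = π u ^ 2 ^ j := by
      intro b hb
      set v := π u ^ 2 ^ j with hvdef
      set w := b * v * b⁻¹ with hw
      set C := Subgroup.centralizer ({v} : Set (G ⧸ Cfsg.oddCore G)) with hC
      have hucomm : ∀ s ∈ S', Commute s (π u) := fun s hs =>
        mul_inv_eq_iff_eq_mul.1 (hfix' s (mul_mem (mul_mem hs hu') (inv_mem hs)))
      have hSC : (S' : Subgroup _) ≤ C := fun s hs =>
        Subgroup.mem_centralizer_singleton_iff.2 ((hucomm s hs).pow_right _).eq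
      obtain ⟨k, hk, hkS⟩ := SylowFusionTools.exists_centralizing_conj_into S' hSC
        (P := Subgroup.zpowers (b⁻¹ * π u * b))
        ((S'.2.to_le (Subgroup.zpowers_le.2 hu')).map (MulAut.conj b⁻¹).toMonoidHom |>.to_le
          (Subgroup.zpowers_le.2 ⟨π u, Subgroup.mem_zpowers _, by simp⟩))
        (Subgroup.zpowers_le.2 (Subgroup.mem_centralizer_singleton_iff.2 (by
          have h1 := ((hucomm w hb).symm.map (MulAut.conj b⁻¹).toMonoidHom).eq
          simpa [w, mul_assoc] using h1)))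
      have h1 : k * (b⁻¹ * π u * b) * k⁻¹ = π u := by
        have e : k * (b⁻¹ * π u * b) * k⁻¹ = k * b⁻¹ * π u * (k * b⁻¹)⁻¹ := by group
        exact e.trans (hfix' _ (e ▸ hkS _ (Subgroup.mem_zpowers _)))
      have h2 : Commute (k * b⁻¹) (π u) := by
        refine mul_inv_eq_iff_eq_mul.1 ?_
        exact (show k * b⁻¹ * π u * (k * b⁻¹)⁻¹ = k * (b⁻¹ * π u * b) * k⁻¹ by group).trans h1
      have h3 : k * b⁻¹ * w * (k * b⁻¹)⁻¹ = v := by
        rw [hw, show k * b⁻¹ * (b * v * b⁻¹) * (k * b⁻¹)⁻¹ = k * v * k⁻¹ by group,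
          Subgroup.mem_centralizer_singleton_iff.1 hk, mul_inv_cancel_right]
      have h4 : k * b⁻¹ * v * (k * b⁻¹)⁻¹ = v := by
        rw [(h2.pow_right _).eq, mul_inv_cancel_right]
      exact mul_left_cancel (mul_right_cancel (h3.trans h4.symm))
    have hvc : π u ^ 2 ^ j ∈ Subgroup.center (G ⧸ Cfsg.oddCore G) := by
      rw [Subgroup.mem_center_iff]
      intro b
      have := starCentral _ _ ((Isolated.isolated_iff_sylow hv hvS).2 hvfix) b
      rw [hO, Subgroup.mem_bot] at this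
      exact (mul_inv_eq_iff_eq_mul.1 (mul_inv_eq_one.1 this)).symm
    haveI : (Subgroup.zpowers (π u ^ 2 ^ j)).Normal := by
      refine ⟨fun c hc b => ?_⟩
      rw [Subgroup.mem_center_iff.1 ((Subgroup.zpowers_le.2 hvc) hc) b, mul_inv_cancel_right]
      exact hc
    set W := Subgroup.zpowers (π u ^ 2 ^ j) with hW
    set ρ := QuotientGroup.mk' W with hρ
    have hO' : Cfsg.oddCore ((G ⧸ Cfsg.oddCore G) ⧸ W) = ⊥ := oddCore_quotient_central hO hv hvc
    have h5 := ih (S'.mapSurjective (QuotientGroup.mk'_surjective W)) (u := ρ (π u)) ⟨_, hu', rfl⟩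
      (fun b hb => fixed_descends S' hu' hfix' W b hb) (ρ a) (by
        rw [← map_pow]; exact (QuotientGroup.eq_one_iff _).2 (Subgroup.mem_zpowers _))
    rw [hO', Subgroup.mem_bot] at h5
    simp only [← map_inv, ← map_mul] at h5
    rw [hρ, QuotientGroup.mk'_apply, QuotientGroup.eq_one_iff] at h5
    have hmem : a * π u * a⁻¹ ∈ S' := by
      have e : a * π u * a⁻¹ = (π u * a * (π u)⁻¹ * a⁻¹)⁻¹ * π u := by group
      rw [e]
      exact mul_mem (inv_mem ((Subgroup.zpowers_le.2 hvS) h5)) hu'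
    have h6 := mul_inv_eq_iff_eq_mul.1 (hfix' a hmem)
    rw [← h6]; group

end CfsgLib.Involution.ZStar
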