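import Cfsg.Agent.Lib.Involution.ZStar.Values
import Cfsg.Agent.Lib.Coprime.Sylow
import Cfsg.Prelude.Def_Transfer

/-!
# Consequences of the `Z*` theorem
-/

set_option autoImplicit false

namespace CfsgLib.Involution.ZStar

open Cfsg CfsgLib.Involution.Dihedral CfsgLib.Involution.Isolated

variable {G : Type*} [Group G] [Finite G]

theorem exists_oddCore_mul_centralizer (hZ : StarCentral G) {z : G}
    (hz : Cfsg.IsIsolatedInvolution z) (g : G) :
    ∃ o ∈ Cfsg.oddCore G, ∃ c ∈ Subgroup.centralizer ({z} : Set G), g = o * c := by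
  have h1 : z * (g * z * g⁻¹) ∈ Cfsg.oddCore G := by
    have := hZ z hz g
    rwa [inv_eq hz.1, mul_assoc, mul_assoc, ← mul_assoc g z g⁻¹] at this
  obtain ⟨d, hd, he⟩ := exists_conj_of_odd hz.1 ((orderOf_conj g z).trans hz.1)
    (odd_of_isConj hz (isConj_iff.2 ⟨g, rfl⟩))
  refine ⟨d, Subgroup.zpowers_le.2 h1 hd, d⁻¹ * g, ?_, by group⟩
  rw [Subgroup.mem_centralizer_singleton_iff]
  calc d⁻¹ * g * z = d⁻¹ * (g * z * g⁻¹) * g := by group
    _ = z * (d⁻¹ * g) := by rw [← he]; group

omit [Finite G] in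
theorem conj_pResidual_mem {p : ℕ} {g : G} (h : Nat.Coprime (orderOf g) p) :
    g ∈ Cfsg.pResidual p G := Subgroup.subset_closure h

theorem pResidual_eq_top_iff (hZ : StarCentral G) {z : G} (hz : Cfsg.IsIsolatedInvolution z) :
    Cfsg.pResidual 2 G = ⊤ ↔
      Cfsg.pResidual 2 (Subgroup.centralizer ({z} : Set G)) = ⊤ := by
  haveI := oddCore_normal (G := G)
  set C := Subgroup.centralizer ({z} : Set G) with hC
  have hOres : Cfsg.oddCore G ≤ Cfsg.pResidual 2 G := fun o ho =>
    conj_pResidual_mem (Nat.coprime_two_right.2 (odd_orderOf_of_mem ho))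
  have hCres : (Cfsg.pResidual 2 C).map C.subtype ≤ Cfsg.pResidual 2 G := by
    rw [Cfsg.pResidual, MonoidHom.map_closure, Subgroup.closure_le]
    rintro _ ⟨c, hc, rfl⟩
    refine conj_pResidual_mem ?_
    rw [Subgroup.coe_subtype, Subgroup.orderOf_coe]
    exact hc
  constructor
  · intro htop
    have hle : Cfsg.pResidual 2 G ≤ Cfsg.oddCore G ⊔ (Cfsg.pResidual 2 C).map C.subtype := by
      rw [Cfsg.pResidual, Subgroup.closure_le]
      intro g hg
      obtain ⟨o, ho, c, hc, rfl⟩ := exists_oddCore_mul_centralizer hZ hz g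
      refine Subgroup.mul_mem_sup ho ⟨⟨c, hc⟩, conj_pResidual_mem ?_, rfl⟩
      have hodd : Odd (orderOf (o * c)) := Nat.coprime_two_right.1 hg
      set O := Cfsg.oddCore G
      have h1 : c ^ orderOf (o * c) ∈ O := by
        rw [← QuotientGroup.eq_one_iff (N := O), QuotientGroup.mk_pow]
        have h2 : ((o * c : G) : G ⧸ O) = (c : G ⧸ O) := by
          rw [QuotientGroup.mk_mul, (QuotientGroup.eq_one_iff o).2 ho, one_mul]
        rw [← h2, ← QuotientGroup.mk_pow, pow_orderOf_eq_one, QuotientGroup.mk_one]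
      have h3 : c ^ (orderOf (o * c) * Nat.card O) = 1 := by
        rw [pow_mul]
        exact congrArg Subtype.val (pow_card_eq_one' (x := (⟨_, h1⟩ : O)))
      rw [← Subgroup.orderOf_coe, Nat.coprime_two_right]
      exact (hodd.mul odd_card_oddCore).of_dvd_nat (orderOf_dvd_of_pow_eq_one h3)
    rw [eq_top_iff]
    rintro ⟨c, hc⟩ -
    have hcmem : c ∈ Cfsg.oddCore G ⊔ (Cfsg.pResidual 2 C).map C.subtype :=
      hle (htop ▸ Subgroup.mem_top c)
    obtain ⟨o, ho, r, hr, he⟩ := Subgroup.mem_sup_of_normal_left.1 hcmem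
    obtain ⟨r', hr', rfl⟩ := hr
    have hoC : o ∈ C := by
      have : o = c * (r' : G)⁻¹ := by rw [← he]; simp
      rw [this]
      exact mul_mem hc (inv_mem r'.2)
    have : (⟨c, hc⟩ : C) = ⟨o, hoC⟩ * r' := Subtype.ext he.symm
    rw [this]
    refine mul_mem (conj_pResidual_mem ?_) hr'
    rw [← Subgroup.orderOf_coe, Nat.coprime_two_right]
    exact odd_orderOf_of_mem ho
  · intro htop
    rw [eq_top_iff]
    intro g _
    obtain ⟨o, ho, c, hc, rfl⟩ := exists_oddCore_mul_centralizer hZ hz g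
    exact mul_mem (hOres ho) (hCres ⟨⟨c, hc⟩, htop ▸ Subgroup.mem_top _, rfl⟩)

/-- A `p`-subgroup centralised by an isolated involution lies in an invariant Sylow subgroup. -/
theorem exists_invariant_sylow_ge (hZ : StarCentral G) {z : G}
    (hz : Cfsg.IsIsolatedInvolution z) {p : ℕ} [Fact p.Prime] (hp : p ≠ 2) {U : Subgroup G}
    (hU : IsPGroup p U) (hUC : U ≤ Subgroup.centralizer ({z} : Set G)) :
    ∃ P : Sylow p G, U ≤ P ∧ z ∈ Subgroup.normalizer ((P : Subgroup G) : Set G) := by
  haveI := oddCore_normal (G := G)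
  set O := Cfsg.oddCore G with hO
  set C := Subgroup.centralizer ({z} : Set G) with hC
  set π := QuotientGroup.mk' O with hπ
  obtain ⟨R, hR⟩ := (hU.of_equiv (Subgroup.subgroupOfEquivOfLe hUC).symm).exists_le_sylow
  set R' := (R : Subgroup C).map C.subtype with hR'
  have hUR : U ≤ R' := fun x hx => ⟨⟨x, hUC hx⟩, hR hx, rfl⟩
  have hsurj : Function.Surjective (π.comp C.subtype) := by
    intro q
    obtain ⟨g, rfl⟩ := QuotientGroup.mk'_surjective O q
    obtain ⟨o, ho, c, hc, rfl⟩ := exists_oddCore_mul_centralizer hZ hz g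
    refine ⟨⟨c, hc⟩, ?_⟩
    change (c : G ⧸ O) = ((o * c : G) : G ⧸ O)
    rw [QuotientGroup.mk_mul, (QuotientGroup.eq_one_iff o).2 ho, one_mul]
  set L := (R'.map π).comap π with hL
  have hLidx : ¬ p ∣ L.index := by
    rw [hL, Subgroup.index_comap_of_surjective _ (QuotientGroup.mk'_surjective O), hR',
      Subgroup.map_map]
    intro h
    exact R.not_dvd_index (h.trans (Subgroup.index_map_dvd _ hsurj))
  have hzL : Subgroup.zpowers z ≤ Subgroup.normalizer (L : Set G) := by
    rw [Subgroup.zpowers_le, Subgroup.mem_normalizer_iff]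
    intro g
    rw [hL, Subgroup.mem_comap, Subgroup.mem_comap]
    have : π (z * g * z⁻¹) = π g := by
      rw [← mul_inv_eq_one, ← map_inv, ← map_mul, ← MonoidHom.mem_ker, hπ,
        QuotientGroup.ker_mk']
      exact hZ z hz g
    rw [this]
  have hLodd : Odd (Nat.card L) := by
    have h1 : Nat.card L ∣ Nat.card O * Nat.card (R'.map π) := by
      have h1 := Subgroup.card_mul_index L
      rw [hL, Subgroup.index_comap_of_surjective _ (QuotientGroup.mk'_surjective O),
        ← Subgroup.card_mul_index O, Subgroup.index_eq_card O,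
        ← Subgroup.card_mul_index (R'.map π), ← mul_assoc] at h1
      rw [Nat.eq_of_mul_eq_mul_right
        (Nat.pos_of_ne_zero (R'.map π).index_ne_zero_of_finite) h1]
    refine (odd_card_oddCore.mul ?_).of_dvd_nat h1
    obtain ⟨k, hk⟩ := IsPGroup.iff_card.1 ((R.2.map C.subtype).map π)
    rw [hk]
    exact ((Fact.out : p.Prime).odd_of_ne_two hp).pow
  have hcop : (Nat.card (Subgroup.zpowers z)).Coprime (Nat.card L) := by
    rw [Nat.card_zpowers, hz.1]
    exact Nat.coprime_two_left.2 hLodd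
  have hUA : Subgroup.zpowers z ≤ Subgroup.normalizer (R' : Set G) := by
    refine le_trans ?_ (Subgroup.centralizer_le_normalizer _)
    rw [Subgroup.zpowers_le, Subgroup.mem_centralizer_iff]
    intro r hr
    exact (Subgroup.mem_centralizer_singleton_iff.1 (Subgroup.map_subtype_le _ hr))
  obtain ⟨P, hP1, hP2⟩ := CfsgLib.Coprime.exists_le_invariant_sylow hzL hcop
    (Or.inl (CfsgLib.Coprime.isSolvable_zpowers z)) (Subgroup.le_comap_map π R')
    (R.2.map C.subtype) hUA
  set P' := (P : Subgroup L).map L.subtype with hP'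
  have hidx : ¬ p ∣ P'.index := by
    rw [hP', Subgroup.index_map_subtype]
    exact fun h => ((Fact.out : p.Prime).dvd_mul.1 h).elim P.not_dvd_index hLidx
  refine ⟨(P.2.map L.subtype).toSylow hidx, hUR.trans ?_, ?_⟩
  · simpa [hP'] using hP1
  · simpa [hP'] using hP2 (Subgroup.mem_zpowers z)

/-- A maximal invariant `p`-subgroup is a Sylow subgroup. -/
theorem exists_sylow_eq_of_maximal (hZ : ∀ H : Subgroup G, StarCentral H) {z : G}
    (hz : Cfsg.IsIsolatedInvolution z) {p : ℕ} [Fact p.Prime] (Q : Subgroup G) (hQ : IsPGroup p Q)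
    (hzQ : z ∈ Subgroup.normalizer (Q : Set G))
    (hmax : ∀ R : Subgroup G, IsPGroup p R → z ∈ Subgroup.normalizer (R : Set G) → Q ≤ R → R = Q) :
    ∃ P : Sylow p G, (P : Subgroup G) = Q := by
  set N := Subgroup.normalizer (Q : Set G) with hN
  set QN := Q.subgroupOf N
  haveI hQn : QN.Normal := Subgroup.normal_in_normalizer
  -- every invariant `p`-subgroup of the normaliser lies in `Q`
  have key : ∀ P : Sylow p N, (⟨z, hzQ⟩ : N) ∈ Subgroup.normalizer ((P : Subgroup N) : Set N) →
      (P : Subgroup N).map N.subtype = Q := by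
    intro P hP
    refine hmax _ (P.2.map _) ?_ ?_
    · have := Subgroup.le_normalizer_map N.subtype ⟨_, hP, rfl⟩
      exact this
    · intro x hx
      have hQN : IsPGroup p QN := hQ.of_equiv
        (Subgroup.subgroupOfEquivOfLe Subgroup.le_normalizer).symm
      exact ⟨⟨x, Subgroup.le_normalizer hx⟩, hQN.le_sylow_of_normal P hx, rfl⟩
  obtain ⟨P, hP⟩ : ∃ P : Sylow p N, (⟨z, hzQ⟩ : N) ∈ Subgroup.normalizer ((P : Subgroup N) : Set N)
      := by
    rcases eq_or_ne p 2 with rfl | hp
    · obtain ⟨P, hP⟩ := (Basic.isPGroup_zpowers_of_two (x := (⟨z, hzQ⟩ : N))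
        (by rw [← Subgroup.orderOf_coe]; exact hz.1)).exists_le_sylow
      exact ⟨P, Subgroup.le_normalizer (hP (Subgroup.mem_zpowers _))⟩
    · obtain ⟨P, -, hP⟩ := exists_invariant_sylow_ge (hZ N) (isolated_subgroup hz hzQ) hp
        (IsPGroup.of_bot (p := p) (G := N)) bot_le
      exact ⟨P, hP⟩
  obtain ⟨S, hS⟩ := hQ.exists_le_sylow
  refine ⟨S, ?_⟩
  rcases hS.eq_or_lt with e | e
  · exact e.symm
  exfalso
  have h1 := CfsgLib.Coprime.lt_normalizer_inf_of_lt S.2 e
  set W := (S : Subgroup G) ⊓ Subgroup.normalizer (Q : Set G) with hW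
  have hWN : W ≤ N := inf_le_right
  obtain ⟨R, hR⟩ := ((S.2.to_le (inf_le_left : W ≤ S)).of_equiv
    (Subgroup.subgroupOfEquivOfLe hWN).symm).exists_le_sylow
  have h2 : Nat.card W ≤ Nat.card Q := by
    rw [← Nat.card_congr (Subgroup.subgroupOfEquivOfLe hWN).toEquiv, ← key P hP,
      CfsgLib.Coprime.card_map_subtype, P.card_eq_multiplicity, ← R.card_eq_multiplicity]
    exact Subgroup.card_le_of_le hR
  exact h1.not_ge (Subgroup.eq_of_le_of_card_ge h1.le h2).ge

theorem exists_conj_invariant {z : G} (hz : Cfsg.IsIsolatedInvolution z) {P Q : Subgroup G}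
    {g : G} (hQ : P.map (MulAut.conj g).toMonoidHom = Q)
    (hzP : z ∈ Subgroup.normalizer (P : Set G)) (hzQ : z ∈ Subgroup.normalizer (Q : Set G)) :
    ∃ c ∈ Subgroup.centralizer ({z} : Set G), P.map (MulAut.conj c).toMonoidHom = Q := by
  have hz' : g⁻¹ * z * g ∈ Subgroup.normalizer (P : Set G) := by
    rw [Subgroup.mem_normalizer_iff_map_conj_eq] at hzQ ⊢
    rw [← hQ] at hzQ
    have := congrArg (Subgroup.map (MulAut.conj g⁻¹).toMonoidHom) hzQ
    simp only [Subgroup.map_map] at this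
    convert this using 1
    · congr 1; ext x; simp [mul_assoc]
    · conv_lhs => rw [← Subgroup.map_id P]
      congr 1; ext x; simp [mul_assoc]
  obtain ⟨h, hh, he⟩ := exists_conj_in hz hzP (isConj_iff.2 ⟨g⁻¹, by group⟩) hz'
  refine ⟨g * h, ?_, ?_⟩
  · rw [Subgroup.mem_centralizer_singleton_iff]
    calc g * h * z = g * (h * z * h⁻¹) * h := by group
      _ = z * (g * h) := by rw [he]; group
  · conv_rhs => rw [← hQ, ← Subgroup.mem_normalizer_iff_map_conj_eq.1 hh, Subgroup.map_map]
    congr 1; ext x; simp [mul_assoc]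

/-- An invariant Sylow subgroup meets the centraliser in a Sylow subgroup of the centraliser. -/
theorem not_dvd_relIndex (hZ : StarCentral G) {z : G} (hz : Cfsg.IsIsolatedInvolution z)
    {p : ℕ} [Fact p.Prime] (hp : p ≠ 2) (P : Sylow p G)
    (hzP : z ∈ Subgroup.normalizer ((P : Subgroup G) : Set G)) :
    ¬ p ∣ ((P : Subgroup G) ⊓ Subgroup.centralizer ({z} : Set G)).relIndex
      (Subgroup.centralizer ({z} : Set G)) := by
  set C := Subgroup.centralizer ({z} : Set G) with hC
  have R : Sylow p C := default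
  obtain ⟨P', hP', hzP'⟩ := exists_invariant_sylow_ge hZ hz hp
    (R.2.map C.subtype) (Subgroup.map_subtype_le _)
  obtain ⟨g, hg⟩ := MulAction.exists_smul_eq G P' P
  obtain ⟨c, hc, he⟩ := exists_conj_invariant hz (P := (P' : Subgroup G)) (Q := (P : Subgroup G))
    (g := g) (by rw [← hg]; rfl) hzP' hzP
  have hle : ((⟨c, hc⟩ : C) • R : Sylow p C).1 ≤ (P : Subgroup G).subgroupOf C := by
    intro x hx
    obtain ⟨y, hy, rfl⟩ := hx
    rw [Subgroup.mem_subgroupOf, ← he]
    exact ⟨y, hP' ⟨y, hy, rfl⟩, rfl⟩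
  rw [Subgroup.relIndex, Subgroup.inf_subgroupOf_right]
  exact fun h => ((⟨c, hc⟩ : C) • R).not_dvd_index (h.trans (Subgroup.index_dvd_of_le hle))

end CfsgLib.Involution.ZStar
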