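import Cfsg.Agent.Lib.Char.Linear
import Cfsg.Agent.Lib.Char.Orth
import Cfsg.Agent.Lib.Blocks.Basic

/-!
# Characters taking the value `± χ 1` at an element with no proper normal over-group
-/

set_option autoImplicit false

namespace CfsgLib.Involution.ZStar

open Cfsg
open scoped Classical ComplexConjugate

variable {G : Type*} [Group G] [Fintype G]

/-- If `t` lies in no proper normal subgroup and `χ t ^ 2 = χ 1 ^ 2` then `χ` is linear. -/
theorem linear_of_sq_eq {t : G} (htop : ∀ N : Subgroup G, N.Normal → t ∈ N → N = ⊤)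
    (χ : IrrCharacter G) (h : (χ : G → ℂ) t ^ 2 = (χ : G → ℂ) 1 ^ 2) :
    ∃ φ : G →* ℂˣ, (χ : G → ℂ) = fun g => (φ g : ℂ) := by
  obtain ⟨n, ρ, hρ, he⟩ := χ.2
  have hval : ∀ g, (χ : G → ℂ) g = ρ.character g := fun g => (congrFun he g).symm
  have hfr : Module.finrank ℂ (Fin n → ℂ) = n := Module.finrank_fin_fun ℂ
  have hnorm : ‖ρ.character t‖ = (n : ℝ) := by
    have h1 := congrArg (‖·‖) h
    simp only [norm_pow, hval, Representation.char_one, hfr, Complex.norm_natCast] at h1
    exact (sq_eq_sq₀ (norm_nonneg _) (Nat.cast_nonneg n)).1 h1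
  obtain ⟨ω, hω, hωt, -⟩ :=
    CfsgLib.Char.exists_scalar_of_norm_char_eq ρ t (by rw [hnorm, hfr])
  let N : Subgroup G := MonoidHom.ker ρ
  have hcomm : ∀ g, g * t * g⁻¹ * t⁻¹ ∈ N := by
    intro g
    show ρ (g * t * g⁻¹ * t⁻¹) = 1
    have h1 : ρ (g * t * g⁻¹) = ρ t := by
      have hgg : ρ g * ρ g⁻¹ = 1 := by rw [← map_mul, mul_inv_cancel, map_one]
      rw [map_mul, map_mul, hωt, ← Module.End.one_eq_id, Algebra.mul_smul_comm, mul_one,
        Algebra.smul_mul_assoc, hgg]
    rw [map_mul, h1, ← map_mul, mul_inv_cancel, map_one]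
  have hN : N.Normal := MonoidHom.normal_ker ρ
  have hL : (N ⊔ Subgroup.zpowers t) = ⊤ := by
    refine htop _ ⟨fun a ha g => ?_⟩ (Subgroup.mem_sup_right (Subgroup.mem_zpowers t))
    obtain ⟨m, hm, _, ⟨k, rfl⟩, rfl⟩ := Subgroup.mem_sup_of_normal_left.1 ha
    rw [← conj_mul]
    refine mul_mem (Subgroup.mem_sup_left (hN.conj_mem m hm g)) ?_
    simp only
    rw [← conj_zpow]
    refine zpow_mem ?_ k
    have := mul_mem (Subgroup.mem_sup_left (T := Subgroup.zpowers t) (hcomm g))
      (Subgroup.mem_sup_right (Subgroup.mem_zpowers t))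
    rwa [inv_mul_cancel_right] at this
  have hall : ∀ g, ‖(χ : G → ℂ) g‖ = (n : ℝ) := by
    intro g
    obtain ⟨m, hm, _, ⟨k, rfl⟩, rfl⟩ :=
      Subgroup.mem_sup_of_normal_left.1 (hL ▸ Subgroup.mem_top g : g ∈ N ⊔ Subgroup.zpowers t)
    have hm' : ρ m = 1 := hm
    obtain ⟨j, hj⟩ : ∃ j : ℕ, t ^ k = t ^ j := by
      obtain ⟨j, -, hj⟩ := Finset.mem_image.1
        ((mem_zpowers_iff_mem_range_orderOf).1 (Subgroup.zpow_mem_zpowers t k))
      exact ⟨j, hj.symm⟩
    simp only [hval, hj, Representation.character, map_mul, hm', one_mul, map_pow, hωt, ← Module.End.one_eq_id]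
    rw [smul_pow, one_pow, map_smul, LinearMap.trace_one, hfr, smul_eq_mul, norm_mul, norm_pow, hω,
      one_pow, one_mul, Complex.norm_natCast]
  have hinner := CfsgLib.Char.classInner_irr_self χ.2
  rw [Cfsg.classInner, inv_mul_eq_iff_eq_mul₀ CfsgLib.Char.card_ne_zero, mul_one] at hinner
  have hterm : ∀ g, (χ : G → ℂ) g * conj ((χ : G → ℂ) g) = ((n : ℂ) ^ 2) := fun g => by
    rw [Complex.mul_conj, Complex.normSq_eq_norm_sq, hall g]
    push_cast; rfl
  simp only [hterm, Finset.sum_const, Finset.card_univ, nsmul_eq_mul, ← Nat.card_eq_fintype_card] at hinner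
  rw [mul_right_eq_self₀] at hinner
  have hn1 : n = 1 := by
    rcases hinner with hinner | hinner
    · have h2 : n ^ 2 = 1 := by exact_mod_cast hinner
      simpa using h2
    · exact absurd hinner CfsgLib.Char.card_ne_zero
  refine CfsgLib.Char.exists_hom_of_apply_one_eq_one (CfsgLib.Char.isCharacter_irr χ) ?_
  rw [hval, Representation.char_one, hfr, hn1, Nat.cast_one]

end CfsgLib.Involution.ZStar
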