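import Cfsg.Agent.Lib.Involution.ZStar.Values
import Cfsg.Agent.S0016

/-!
# Glauberman's `Z*` theorem from the Brauer–Suzuki theorem
-/

set_option autoImplicit false

namespace CfsgLib.Involution.ZStar

open Cfsg CfsgLib.Involution.Dihedral CfsgLib.Involution.Isolated

universe u

theorem central_of_cyclic {G : Type*} [Group G] [Finite G] (hO : Cfsg.oddCore G = ⊥)
    (P : Sylow 2 G) (hP : IsCyclic P) {t : G} (htP : t ∈ P) : t ∈ Subgroup.center G := by
  haveI : Fact (Nat.Prime 2) := ⟨Nat.prime_two⟩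
  rcases Nat.even_or_odd (Nat.card G) with heven | hodd
  · have hmin : (Nat.card G).minFac = 2 := (Nat.minFac_eq_two_iff _).2 (even_iff_two_dvd.1 heven)
    have hc := MonoidHom.ker_transferSylow_isComplement' P (hP.normalizer_le_centralizer hmin)
    set N := (MonoidHom.transferSylow P (hP.normalizer_le_centralizer hmin)).ker
    have hN : N.Normal := MonoidHom.normal_ker _
    have hodd : Odd (Nat.card N) := by
      rw [← hc.index_eq_card, Nat.odd_iff]
      have := P.not_dvd_index
      omega
    have hNbot : N = ⊥ := le_bot_iff.1 (hO ▸ le_oddCore hN hodd)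
    have hPtop : (P : Subgroup G) = ⊤ := by
      rw [hNbot] at hc
      exact Subgroup.isComplement'_bot_left.1 hc
    rw [Subgroup.mem_center_iff]
    intro g
    have hcomm : IsMulCommutative (P : Subgroup G) := hP.isMulCommutative
    exact congrArg Subtype.val
      (mul_comm' (⟨g, hPtop ▸ Subgroup.mem_top g⟩ : (P : Subgroup G)) ⟨t, htP⟩)
  · have : (⊤ : Subgroup G) ≤ Cfsg.oddCore G :=
      le_oddCore inferInstance (by rwa [Subgroup.card_top])
    rw [hO, le_bot_iff] at this
    rw [Subgroup.mem_center_iff]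
    intro g
    have hall : ∀ a : G, a = 1 := fun a =>
      Subgroup.mem_bot.1 (this ▸ Subgroup.mem_top a)
    rw [hall g, hall t]

/-- Glauberman's `Z*` theorem, given the Brauer–Suzuki theorem. -/
theorem starCentral_of
    (hBS : ∀ (H : Type u) [Group H] [Finite H] (S : Sylow 2 H) (n : ℕ),
      ((S : Subgroup H) ≃* QuaternionGroup (2 ^ (n + 1))) →
      (∀ N : Subgroup H, N.Normal → Odd (Nat.card N) → N = ⊥) →
      Nat.card (Subgroup.center H) = 2)
    (G : Type u) [Group G] [Finite G] : StarCentral G := by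
  obtain ⟨n, hn⟩ : ∃ n, Nat.card G = n := ⟨_, rfl⟩
  induction n using Nat.strong_induction_on generalizing G with
  | _ n ih =>
  subst hn
  haveI hOn : (Cfsg.oddCore G).Normal := oddCore_normal
  intro t ht g
  have htO : t ∉ Cfsg.oddCore G := fun h => by
    have h1 := odd_orderOf_of_mem h
    rw [ht.1] at h1
    exact absurd h1 (by decide)
  by_cases hO : Cfsg.oddCore G = ⊥
  swap
  · have hlt : Nat.card (G ⧸ Cfsg.oddCore G) < Nat.card G := by
      rw [Subgroup.card_eq_card_quotient_mul_card_subgroup (Cfsg.oddCore G)]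
      refine lt_mul_of_one_lt_right Nat.card_pos ?_
      exact (Subgroup.one_lt_card_iff_ne_bot _).2 hO
    have h1 := ih _ hlt (G ⧸ Cfsg.oddCore G) rfl _
      (Cfsg.Agent.S1181.result t ht (Cfsg.oddCore G) htO).2 (g : G ⧸ Cfsg.oddCore G)
    rw [oddCore_quotient, Subgroup.mem_bot, ← QuotientGroup.mk_inv, ← QuotientGroup.mk_inv,
      ← QuotientGroup.mk_mul, ← QuotientGroup.mk_mul, ← QuotientGroup.mk_mul,
      QuotientGroup.eq_one_iff] at h1
    exact h1
  suffices hc : t ∈ Subgroup.center G by
    rw [← Subgroup.mem_center_iff.1 hc g, mul_inv_cancel_right, mul_inv_cancel]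
    exact one_mem _
  by_contra hnc
  have hnocentral : ∀ w : G, orderOf w = 2 → w ∉ Subgroup.center G := by
    intro w hw hwc
    have hWn : (Subgroup.zpowers w).Normal := ⟨fun a ha b => by
      have hac : a ∈ Subgroup.center G := (Subgroup.zpowers_le.2 hwc) ha
      rw [Subgroup.mem_center_iff.1 hac b, mul_inv_cancel_right]; exact ha⟩
    have htW : t ∉ Subgroup.zpowers w := fun h => hnc ((Subgroup.zpowers_le.2 hwc) h)
    have hlt : Nat.card (G ⧸ Subgroup.zpowers w) < Nat.card G := by
      rw [Subgroup.card_eq_card_quotient_mul_card_subgroup (Subgroup.zpowers w)]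
      exact lt_mul_of_one_lt_right Nat.card_pos (by rw [Nat.card_zpowers, hw]; norm_num)
    refine hnc (Subgroup.mem_center_iff.2 fun a => ?_)
    have h1 := ih _ hlt (G ⧸ Subgroup.zpowers w) rfl _
      (Cfsg.Agent.S1181.result t ht (Subgroup.zpowers w) htW).2 (a : G ⧸ Subgroup.zpowers w)
    rw [oddCore_quotient_central hO hw hwc, Subgroup.mem_bot, ← QuotientGroup.mk_inv,
      ← QuotientGroup.mk_inv, ← QuotientGroup.mk_mul, ← QuotientGroup.mk_mul,
      ← QuotientGroup.mk_mul, QuotientGroup.eq_one_iff] at h1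
    have h2 : a * t * a⁻¹ * t⁻¹ ∈ Subgroup.center G := by
      have := inv_mem ((Subgroup.zpowers_le.2 hwc) h1)
      simpa [mul_inv_rev, mul_assoc] using this
    have h3 : Commute t (a * t * a⁻¹) := by
      have h4 : a * t * a⁻¹ = a * t * a⁻¹ * t⁻¹ * t := by rw [inv_mul_cancel_right]
      rw [h4]
      exact (show Commute t (a * t * a⁻¹ * t⁻¹) from Subgroup.mem_center_iff.1 h2 t).mul_right
        (Commute.refl t)
    exact mul_inv_eq_iff_eq_mul.1 (ht.2 a h3)
  have hlt : ∀ H : Subgroup G, H ≠ ⊤ → Nat.card H < Nat.card G := by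
    intro H hH
    refine lt_of_le_of_ne (Nat.le_of_dvd Nat.card_pos (Subgroup.card_subgroup_dvd_card H)) ?_
    exact fun he => hH (Subgroup.eq_top_of_card_eq H he)
  have htop : ∀ N : Subgroup G, N.Normal → t ∈ N → N = ⊤ := by
    intro N hN htN
    by_contra hne
    have hIH := ih _ (hlt N hne) N rfl ⟨t, htN⟩ (isolated_subgroup ht htN)
    have hON : Cfsg.oddCore N = ⊥ := by
      have h1 : Odd (Nat.card ((Cfsg.oddCore N).map N.subtype)) := by
        rw [Nat.card_congr ((Cfsg.oddCore N).equivMapOfInjective _ N.subtype_injective).toEquiv.symm]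
        exact odd_card_oddCore
      have h2 := le_trans (le_oddCore (G := G) inferInstance h1) hO.le
      rw [le_bot_iff, Subgroup.map_eq_bot_iff_of_injective _ N.subtype_injective] at h2
      exact h2
    refine hnc (Subgroup.mem_center_iff.2 fun a => ?_)
    have hcomm : Commute t (a * t * a⁻¹) := by
      have h1 := hIH ⟨a * t * a⁻¹, hN.conj_mem t htN a⟩
      rw [hON, Subgroup.mem_bot] at h1
      have h2 : t * (a * t * a⁻¹) * t⁻¹ * (a * t * a⁻¹)⁻¹ = 1 := congrArg Subtype.val h1
      rw [mul_inv_eq_one, mul_inv_eq_iff_eq_mul] at h2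
      exact h2
    exact mul_inv_eq_iff_eq_mul.1 (ht.2 a hcomm)
  have hIH : ∀ w : G, orderOf w = 2 → StarCentral (Subgroup.centralizer ({w} : Set G)) := by
    intro w hw
    refine ih _ (hlt _ fun h => hnocentral w hw ?_) _ rfl
    rw [Subgroup.mem_center_iff]
    intro a
    exact Subgroup.mem_centralizer_singleton_iff.1 (h ▸ Subgroup.mem_top a)
  obtain ⟨P, hP⟩ := (CfsgLib.Involution.Basic.isPGroup_zpowers_of_two ht.1).exists_le_sylow
  have htP : t ∈ P := hP (Subgroup.mem_zpowers t)
  haveI : Fact (Nat.Prime 2) := ⟨Nat.prime_two⟩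
  have hcen : ∀ s ∈ P, Commute s t := fun s hs =>
    mul_inv_eq_iff_eq_mul.1 ((isolated_iff_sylow ht.1 htP).1 ht s
      (mul_mem (mul_mem hs htP) (inv_mem hs)))
  have huniq : ∀ H K : Subgroup P, Nat.card H = 2 → Nat.card K = 2 → H = K := by
    have key : ∀ H : Subgroup P, Nat.card H = 2 → H = Subgroup.zpowers (⟨t, htP⟩ : P) := by
      intro H hH
      have h2 : Nat.card (Subgroup.zpowers (⟨t, htP⟩ : P)) = 2 := by
        rw [Nat.card_zpowers, ← Subgroup.orderOf_coe]; exact ht.1
      refine (Subgroup.eq_of_le_of_card_ge ?_ (hH.trans h2.symm).le).symm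
      rw [Subgroup.zpowers_le]
      obtain ⟨v, hv⟩ := exists_prime_orderOf_dvd_card' (G := H) 2 (by rw [hH])
      have hv2 : orderOf ((v : P) : G) = 2 := by rw [Subgroup.orderOf_coe, Subgroup.orderOf_coe, hv]
      have h3 := eq_of_commute_involution hIH ht htop hv2 (hcen _ (v : P).2)
      have h4 : (v : P) = ⟨t, htP⟩ := Subtype.ext h3
      rw [← h4]; exact v.2
    intro H K hH hK
    rw [key H hH, key K hK]
  rcases Cfsg.Agent.S0016.result 2 P.2 huniq with hcyc | ⟨-, m, ⟨e⟩⟩
  · exact hnc (central_of_cyclic hO P hcyc htP)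
  rcases m with - | m
  · have : IsCyclic P := by
      haveI : IsCyclic (QuaternionGroup (2 ^ 0)) := by
        rw [pow_zero]; exact QuaternionGroup.quaternionGroup_one_isCyclic
      exact e.isCyclic.2 inferInstance
    exact hnc (central_of_cyclic hO P this htP)
  have hZ := hBS G P m e fun N hN hodd => le_bot_iff.1 (hO ▸ le_oddCore hN hodd)
  obtain ⟨v, hv⟩ := exists_prime_orderOf_dvd_card' (G := Subgroup.center G) 2 (by rw [hZ])
  exact hnocentral _ (by rw [Subgroup.orderOf_coe, hv]) v.2

end CfsgLib.Involution.ZStar
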