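import Cfsg.Agent.Lib.Involution.ZStar.Values
import Cfsg.Prelude.Def_TwoFusion

/-!
# A strongly closed subgroup centralises a normalised subgroup with trivial odd core meeting it
trivially
-/

set_option autoImplicit false

namespace CfsgLib.Involution.ZStar

open Cfsg CfsgLib.Involution.Dihedral
open scoped Pointwise

universe u

theorem le_centralizer_of_stronglyClosed (hZ : ∀ (X : Type u) [Group X] [Finite X], StarCentral X)
    {G : Type u} [Group G] [Finite G] (S : Sylow 2 G) (A : Subgroup G)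
    (hA : Cfsg.IsStronglyClosed A (S : Subgroup G)) (H : Subgroup G)
    (hAH : A ≤ Subgroup.normalizer (H : Set G)) (hO : Cfsg.oddCore ↥H = ⊥) (hdisj : A ⊓ H = ⊥) :
    A ≤ Subgroup.centralizer (H : Set G) := by
  haveI : Fact (Nat.Prime 2) := ⟨Nat.prime_two⟩
  have hA2 : IsPGroup 2 A := S.2.to_le hA.1
  set Y := A ⊔ H with hY
  have hYN : Y ≤ Subgroup.normalizer (H : Set G) := sup_le hAH Subgroup.le_normalizer
  have hconj : ∀ K : Subgroup G, K ≤ Y → IsPGroup 2 K → ∀ a ∈ A, ∀ c : G, IsConj a c →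
      a ∈ K → c ∈ K → c * a⁻¹ ∈ H → c = a := by
    intro K hKY hK a ha c hac haK hcK hcH
    obtain ⟨T, hT⟩ := (hA2.of_equiv (Subgroup.subgroupOfEquivOfLe (le_sup_left : A ≤ Y)).symm).exists_le_sylow
    obtain ⟨T', hT'⟩ := (hK.of_equiv (Subgroup.subgroupOfEquivOfLe hKY).symm).exists_le_sylow
    obtain ⟨y, hy⟩ := MulAction.exists_smul_eq Y T' T
    obtain ⟨g, hg⟩ := Basic.exists_conj_le S (T.2.map Y.subtype)
    have hAA : A.map (MulAut.conj g).toMonoidHom = A := by
      refine Subgroup.eq_of_le_of_card_ge ?_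
        (Nat.card_congr (A.equivMapOfInjective _ (MulAut.conj g).injective).toEquiv).le
      rintro _ ⟨x, hx, rfl⟩
      exact hA.2 x hx g (hg x ⟨⟨x, (le_sup_left : A ≤ Y) hx⟩, hT hx, rfl⟩)
    have hin : ∀ x ∈ K, IsConj a x → (y : G) * x * (y : G)⁻¹ ∈ A := by
      intro x hx hax
      have h1 : ((y : G) * x * (y : G)⁻¹) ∈ (T : Subgroup Y).map Y.subtype := by
        refine ⟨y * ⟨x, hKY hx⟩ * y⁻¹, ?_, rfl⟩
        rw [← hy]
        exact ⟨⟨x, hKY hx⟩, hT' hx, rfl⟩
      obtain ⟨d, hd⟩ := isConj_iff.1 hax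
      have hmul : g * ((y : G) * x * (y : G)⁻¹) * g⁻¹ = (g * y * d) * a * (g * y * d)⁻¹ := by
        rw [← hd]; group
      have h2 := hA.2 a ha (g * y * d) (hmul ▸ hg _ h1)
      rw [← hmul, ← hAA] at h2
      obtain ⟨x', hx', he⟩ := h2
      rwa [(MulAut.conj g).injective he] at hx'
    have h3 : (y : G) * (c * a⁻¹) * (y : G)⁻¹ ∈ A ⊓ H := by
      refine Subgroup.mem_inf.2 ⟨?_, (Subgroup.mem_normalizer_iff.1 (hYN y.2) _).1 hcH⟩
      rw [show (y : G) * (c * a⁻¹) * (y : G)⁻¹ = ((y : G) * c * (y : G)⁻¹) *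
        ((y : G) * a * (y : G)⁻¹)⁻¹ by group]
      exact mul_mem (hin c hcK hac) (inv_mem (hin a haK (IsConj.refl a)))
    rw [hdisj, Subgroup.mem_bot, conj_eq_one_iff, mul_inv_eq_one] at h3
    exact h3
  intro a ha
  induction hn : orderOf a using Nat.strong_induction_on generalizing a with
  | _ n ih =>
  subst hn
  by_cases ha1 : a = 1
  · rw [ha1]; exact one_mem _
  obtain ⟨k, hk⟩ := IsPGroup.iff_orderOf.1 hA2 ⟨a, ha⟩
  rw [← Subgroup.orderOf_coe] at hk
  simp only at hk
  obtain ⟨j, rfl⟩ : ∃ j, k = j + 1 := Nat.exists_eq_add_one.2 (Nat.pos_of_ne_zero fun h => ha1 <|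
    orderOf_eq_one_iff.1 (by rw [hk, h, pow_zero]))
  have hord2 : orderOf (a ^ 2) = 2 ^ j := by
    rw [orderOf_pow' _ two_ne_zero, hk, pow_succ, Nat.gcd_eq_right (dvd_mul_left 2 _),
      Nat.mul_div_cancel _ two_pos]
  have hlt : orderOf (a ^ 2) < orderOf a := by
    rw [hord2, hk]; exact Nat.pow_lt_pow_right one_lt_two (Nat.lt_succ_self j)
  have hsq : a ^ 2 ∈ Subgroup.centralizer (H : Set G) := ih _ hlt (pow_mem ha 2) rfl
  set X := H ⊔ Subgroup.zpowers a with hX
  have haX : a ∈ X := Subgroup.mem_sup_right (Subgroup.mem_zpowers a)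
  set a' : X := ⟨a, haX⟩ with ha'
  set W := Subgroup.zpowers (a' ^ 2) with hW
  have hXN : X ≤ Subgroup.normalizer (H : Set G) :=
    sup_le Subgroup.le_normalizer (Subgroup.zpowers_le.2 (hAH ha))
  have hcen : a' ^ 2 ∈ Subgroup.center X := by
    rw [Subgroup.mem_center_iff]
    intro x
    have h1 : X ≤ Subgroup.centralizer ({a ^ 2} : Set G) := by
      refine sup_le (fun h hh => ?_) (Subgroup.zpowers_le.2 ?_)
      · rw [Subgroup.mem_centralizer_singleton_iff]
        exact hsq h hh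
      · rw [Subgroup.mem_centralizer_singleton_iff]
        exact Commute.self_pow a 2
    exact Subtype.ext (Subgroup.mem_centralizer_singleton_iff.1 (h1 x.2))
  haveI hWn : W.Normal := ⟨fun w hw x => by
    rw [Subgroup.mem_center_iff.1 ((Subgroup.zpowers_le.2 hcen) hw) x, mul_inv_cancel_right]
    exact hw⟩
  have hWA : ∀ w ∈ W, (w : G) ∈ A := by
    intro w hw
    obtain ⟨i, rfl⟩ := Subgroup.mem_zpowers_iff.1 hw
    push_cast
    exact zpow_mem (pow_mem ha 2) i
  have haW : a' ∉ W := by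
    intro h
    have h1 := (Subgroup.orderOf_dvd_natCard W h)
    rw [hW, Nat.card_zpowers, ← Subgroup.orderOf_coe, ← Subgroup.orderOf_coe, SubgroupClass.coe_pow,
      hord2, hk] at h1
    exact absurd (Nat.le_of_dvd (by positivity) h1)
      (not_le.2 (Nat.pow_lt_pow_right one_lt_two (Nat.lt_succ_self j)))
  set π := QuotientGroup.mk' W with hπ
  have hπa : orderOf (π a') = 2 := by
    refine orderOf_eq_two ?_ fun h => haW ?_
    · rw [← map_mul, ← MonoidHom.mem_ker, QuotientGroup.ker_mk', ← pow_two]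
      exact Subgroup.mem_zpowers _
    · rwa [hπ, QuotientGroup.mk'_apply, QuotientGroup.eq_one_iff] at h
  set HX := H.subgroupOf X with hHX
  haveI hHn : HX.Normal := (Subgroup.normal_subgroupOf_iff_le_normalizer le_sup_left).2 hXN
  have hHW : ∀ x ∈ HX, x ∈ W → x = 1 := by
    intro x hx hxW
    have : (x : G) ∈ A ⊓ H := ⟨hWA x hxW, hx⟩
    rw [hdisj, Subgroup.mem_bot] at this
    exact Subtype.ext this
  have hiso : Cfsg.IsIsolatedInvolution (π a') := by
    refine ⟨hπa, fun q hq => ?_⟩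
    obtain ⟨x, rfl⟩ := QuotientGroup.mk'_surjective W q
    rw [← map_inv, ← map_mul, ← map_mul] at hq ⊢
    set c := x * a' * x⁻¹ with hc
    have hcH : (c : G) * a⁻¹ ∈ H := by
      have hnorm : (Subgroup.zpowers a : Subgroup G) ≤ Subgroup.normalizer (H : Set G) :=
        Subgroup.zpowers_le.2 (hAH ha)
      have hxm : (x : G) ∈ ((H : Set G) * (Subgroup.zpowers a : Set G)) := by
        rw [← Subgroup.coe_mul_of_right_le_normalizer_left _ _ hnorm]
        exact x.2
      obtain ⟨h, hh, _, ⟨m, rfl⟩, hx⟩ := Set.mem_mul.1 hxm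
      have e : (c : G) * a⁻¹ = h * (a * h⁻¹ * a⁻¹) := by
        rw [hc]; push_cast; rw [← hx, show (a' : G) = a from rfl]; group
      rw [e]
      exact mul_mem hh ((Subgroup.mem_normalizer_iff.1 (hXN haX) _).1 (inv_mem hh))
    have hπc : orderOf (π c) = 2 := by
      rw [hc, map_mul, map_mul, map_inv, orderOf_conj, hπa]
    have hK2 : IsPGroup 2 ((Subgroup.zpowers (π a') ⊔ Subgroup.zpowers (π c)).comap π) := by
      refine (Basic.isPGroup_of_commute hπa hπc hq).comap_of_ker_isPGroup π ?_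
      rw [QuotientGroup.ker_mk']
      exact IsPGroup.of_card (n := j) (by
        rw [hW, Nat.card_zpowers, ← Subgroup.orderOf_coe, SubgroupClass.coe_pow, hord2])
    set K := ((Subgroup.zpowers (π a') ⊔ Subgroup.zpowers (π c)).comap π).map X.subtype with hKdef
    have hXY : X ≤ Y := sup_le le_sup_right (Subgroup.zpowers_le.2 (Subgroup.mem_sup_left ha))
    have h1 : (c : G) = a := hconj K ((Subgroup.map_subtype_le _).trans hXY) (hK2.map _) a ha c
      (isConj_iff.2 ⟨x, rfl⟩) ⟨a', Subgroup.mem_sup_left (Subgroup.mem_zpowers _), rfl⟩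
      ⟨c, Subgroup.mem_sup_right (Subgroup.mem_zpowers _), rfl⟩ hcH
    rw [show c = a' from Subtype.ext h1]
  have hOH : ∀ x ∈ HX, π x ∈ Cfsg.oddCore (X ⧸ W) → x = 1 := by
    haveI := oddCore_normal (G := X ⧸ W)
    set f : H →* X ⧸ W := π.comp (Subgroup.inclusion (le_sup_left : H ≤ X)) with hf
    have hinj : Function.Injective f := (injective_iff_map_eq_one f).2 fun x hx => by
      rw [hf, MonoidHom.comp_apply, hπ, QuotientGroup.mk'_apply, QuotientGroup.eq_one_iff] at hx
      exact Subgroup.inclusion_injective le_sup_left (hHW _ x.2 hx)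
    set N := (Cfsg.oddCore (X ⧸ W)).comap f with hN
    have hNodd : Odd (Nat.card N) := by
      refine odd_card_oddCore.of_dvd_nat ((Subgroup.card_comap_dvd_of_injective _ f hinj))
    have hNbot : N = ⊥ := le_bot_iff.1 (hO ▸ le_oddCore inferInstance hNodd)
    intro x hx hxO
    have : (⟨(x : G), hx⟩ : H) ∈ N := hxO
    rw [hNbot, Subgroup.mem_bot] at this
    exact Subtype.ext (congrArg Subtype.val this :)
  rw [Subgroup.mem_centralizer_iff]
  intro h hh
  set h' : X := ⟨h, Subgroup.mem_sup_left hh⟩ with hh'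
  have hcm : a' * h' * a'⁻¹ * h'⁻¹ ∈ HX := by
    refine mul_mem ?_ (inv_mem (show h' ∈ HX from hh))
    exact hHn.conj_mem h' hh a'
  have h1 : π (a' * h' * a'⁻¹ * h'⁻¹) ∈ Cfsg.oddCore (X ⧸ W) := by
    rw [map_mul, map_mul, map_mul, map_inv, map_inv]
    exact hZ (X ⧸ W) (π a') hiso (π h')
  have h2 : a * h * a⁻¹ * h⁻¹ = 1 := congrArg Subtype.val (hOH _ hcm h1)
  rw [mul_inv_eq_one, mul_inv_eq_iff_eq_mul] at h2
  exact h2.symm

end CfsgLib.Involution.ZStar
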