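import Cfsg.Agent.Lib.Involution.ZStar.PrincipalBlock
import Cfsg.Agent.Lib.Blocks.Eigen
import Cfsg.Agent.Lib.Involution.ZStar.Basic
import Cfsg.Agent.Lib.Involution.ZStar.Linear
import Cfsg.Agent.S0943
import Cfsg.Agent.S1182

/-!
# Principal-block values at involutions commuting with an isolated involution
-/

set_option autoImplicit false

namespace CfsgLib.Involution.ZStar

open Cfsg CfsgLib.Involution.Dihedral CfsgLib.Involution.Isolated
open scoped Classical

variable {G : Type*} [Group G] [Finite G]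

/-- The conclusion of the `Z*` theorem for `G`. -/
def StarCentral (G : Type*) [Group G] : Prop :=
  ∀ t : G, Cfsg.IsIsolatedInvolution t → ∀ g : G, t * g * t⁻¹ * g⁻¹ ∈ Cfsg.oddCore G

/-- The product of an involution and a conjugate of the isolated `t`. -/
theorem structure_mul {u t : G} (hu : orderOf u = 2) (ht : Cfsg.IsIsolatedInvolution t)
    (hut : Commute u t) (hne : u ≠ t) {x y : G} (hx : IsConj u x) (hy : IsConj t y) :
    ∃ w r : G, x * y = w * r ∧ orderOf w = 2 ∧ Commute w y ∧ Commute w r ∧ Odd (orderOf r) ∧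
      y * r * y⁻¹ = r⁻¹ ∧ IsConj (u * t) w := by
  have hx2 : orderOf x = 2 := by
    obtain ⟨g, rfl⟩ := isConj_iff.1 hx; rw [orderOf_conj, hu]
  have hyiso : Cfsg.IsIsolatedInvolution y := by
    obtain ⟨g, rfl⟩ := isConj_iff.1 hy; exact conj_isolated ht g
  have hy2 : orderOf y = 2 := hyiso.1
  have hutne : ¬ IsConj u t := fun h => hne (eq_of_isConj ht h.symm hut.symm)
  have hxy : x ≠ y := by
    rintro rfl
    exact hutne (hx.trans hy.symm)
  have heven : Even (orderOf (x * y)) := by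
    by_contra h
    rw [Nat.not_even_iff_odd] at h
    exact hutne ((hx.trans (isConj_of_odd hx2 hy2 h)).trans hy.symm)
  set w := (x * y) ^ (orderOf (x * y) / 2) with hw
  have hw2 : orderOf w = 2 := half_orderOf heven
  have hinv : y * (x * y) * y⁻¹ = (x * y)⁻¹ := by
    rw [mul_inv_rev, inv_eq hx2, inv_eq hy2, mul_assoc, mul_assoc x, mul_self hy2, mul_one]
  have hyw : Commute w y := by
    have h1 : y * w * y⁻¹ = w := by
      rw [hw, conj_pow hinv, ← hw, inv_eq hw2]
    exact (mul_inv_eq_iff_eq_mul.1 h1).symm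
  have hn4 : ¬ 4 ∣ orderOf (x * y) := by
    intro h4
    have horder : orderOf (y * x) = orderOf (x * y) := by
      rw [show y * x = (x * y)⁻¹ by rw [mul_inv_rev, inv_eq hx2, inv_eq hy2], orderOf_inv]
    obtain ⟨d, -, hd⟩ := (conj_half_iff hy2 hx2 (by rwa [horder])).2 (by rwa [horder])
    have hw' : (y * x) ^ (orderOf (y * x) / 2) = w := by
      rw [horder, show y * x = (x * y)⁻¹ by rw [mul_inv_rev, inv_eq hx2, inv_eq hy2], inv_pow, ← hw,
        inv_eq hw2]
    rw [hw'] at hd
    have h1 := eq_of_isConj hyiso (c := y * w) (isConj_iff.2 ⟨d, hd⟩)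
      ((Commute.refl y).mul_right hyw.symm)
    exact Dihedral.ne_one hw2 (mul_eq_left.1 h1)
  set r := x * y * w with hr
  have hwxy : Commute w (x * y) := (Commute.refl (x * y)).pow_left _
  have hrw : x * y = w * r := by
    rw [hr, ← mul_assoc, hwxy.eq, mul_assoc, mul_self hw2, mul_one]
  have hodd : Odd (orderOf r) := by
    have hm : Odd (orderOf (x * y) / 2) := by
      obtain ⟨m, hm⟩ := heven
      rw [Nat.odd_iff]; omega
    refine hm.of_dvd_nat (orderOf_dvd_of_pow_eq_one ?_)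
    rw [hr, hw, ← pow_succ', ← pow_mul]
    obtain ⟨j, hj⟩ := hm
    rw [hj, show (2 * j + 1 + 1) * (2 * j + 1) = 2 * (2 * j + 1) * (j + 1) by ring,
      show 2 * (2 * j + 1) = orderOf (x * y) by obtain ⟨m, hm⟩ := heven; omega, pow_mul,
      pow_orderOf_eq_one, one_pow]
  have hyr : y * r * y⁻¹ = r⁻¹ := by
    rw [hr, ← conj_mul, hinv, show y * w * y⁻¹ = w by rw [← hyw.eq, mul_inv_cancel_right],
      mul_inv_rev (x * y) w, inv_eq hw2, hwxy.inv_right.eq]
  refine ⟨w, r, hrw, hw2, hyw, hwxy.mul_right (Commute.refl w), hodd, hyr, ?_⟩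
  have hwy1 : w * y ≠ 1 := by
    intro h
    have hwy : w = y := by rw [← inv_eq hy2]; exact eq_inv_of_mul_eq_one_left h
    have h2 := hwxy.symm.eq
    rw [hwy] at h2
    have h3 : Commute x y := by
      rw [commute_iff_eq]
      calc x * y = (x * y) * y * y := by rw [mul_assoc (x * y), mul_self hy2, mul_one]
        _ = y * (x * y) * y := by rw [h2]
        _ = y * x := by rw [mul_assoc y, mul_assoc x, mul_self hy2, mul_one]
    have h4 : orderOf (x * y) = 2 := by
      refine orderOf_eq_two ?_ ?_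
      · rw [mul_assoc, ← mul_assoc y, ← h3.eq, mul_assoc x y y, mul_self hy2, mul_one, mul_self hx2]
      · intro h5; exact hxy (by rw [eq_inv_of_mul_eq_one_left h5, inv_eq hy2])
    have h5 : x * y = y := by
      have : w = x * y := by rw [hw, h4]; norm_num
      rw [← this, hwy]
    exact Dihedral.ne_one hx2 (mul_eq_right.1 h5)
  have hwy2 : orderOf (w * y) = 2 := orderOf_eq_two (by
    rw [mul_assoc, ← mul_assoc y, ← hyw.eq, mul_assoc w y y, mul_self hy2, mul_one, mul_self hw2])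
    hwy1
  have hcx : IsConj u (w * y) := by
    refine hx.trans (isConj_of_odd hx2 hwy2 ?_)
    rw [show x * (w * y) = r by rw [hr, hyw.eq, ← mul_assoc]]
    exact hodd
  obtain ⟨g, hg⟩ := isConj_iff.1 hy.symm
  have hcomm : Commute (g * (w * y) * g⁻¹) t := by
    rw [← hg]
    exact (hyw.mul_left (Commute.refl y)).map (MulAut.conj g).toMonoidHom
  obtain ⟨k, hk⟩ := isConj_iff.1 (hcx.symm)
  obtain ⟨c, -, hct, hcu⟩ := Cfsg.Agent.S1182.result t ht ⊤
    (by rw [Subgroup.normalizer_eq_top]; trivial) _ u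
    (Subgroup.mem_top _) (Subgroup.mem_top _) hcomm hut (k * g⁻¹) (Subgroup.mem_top _) (by
      rw [← hk]; group)
  refine (isConj_iff.2 ⟨c * g, ?_⟩ : IsConj w (u * t)).symm
  have ew : w = w * y * y := by rw [mul_assoc, mul_self hy2, mul_one]
  calc c * g * w * (c * g)⁻¹ = c * g * (w * y * y) * (c * g)⁻¹ := by rw [← ew]
    _ = c * (g * (w * y) * g⁻¹) * c⁻¹ * (c * (g * y * g⁻¹) * c⁻¹) := by group
    _ = u * t := by rw [hcu, hg, hct.eq, mul_inv_cancel_right]

/-- The key character identity. -/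
theorem apply_mul_apply {M : Ideal AlgInt} (hM : IsPModular 2 M)
    (hIH : ∀ w : G, orderOf w = 2 → StarCentral (Subgroup.centralizer ({w} : Set G)))
    {χ : IrrCharacter G} (hχ : χ ∈ principalBlock M G) {u t : G} (hu : orderOf u = 2)
    (ht : Cfsg.IsIsolatedInvolution t) (hut : Commute u t) (hne : u ≠ t) :
    (χ : G → ℂ) u * (χ : G → ℂ) t = (χ : G → ℂ) 1 * (χ : G → ℂ) (u * t) := by
  cases nonempty_fintype G
  have key : ∀ x y : G, IsConj u x → IsConj t y → (χ : G → ℂ) (x * y) = (χ : G → ℂ) (u * t) := by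
    intro x y hx hy
    obtain ⟨w, r, hxy, hw2, hwy, hwr, hodd, hyr, hconj⟩ := structure_mul hu ht hut hne hx hy
    have hyC : y ∈ Subgroup.centralizer ({w} : Set G) :=
      Subgroup.mem_centralizer_singleton_iff.2 hwy.symm.eq
    have hrC : r ∈ Subgroup.centralizer ({w} : Set G) :=
      Subgroup.mem_centralizer_singleton_iff.2 hwr.symm.eq
    have hyiso : Cfsg.IsIsolatedInvolution y := by
      obtain ⟨g, rfl⟩ := isConj_iff.1 hy; exact conj_isolated ht g
    have hrO : (⟨r, hrC⟩ : Subgroup.centralizer ({w} : Set G)) ∈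
        Cfsg.oddCore (Subgroup.centralizer ({w} : Set G)) := by
      refine mem_of_sq_mem (by rwa [← Subgroup.orderOf_coe]) ?_
      have h1 := inv_mem (hIH w hw2 _ (isolated_subgroup hyiso hyC) ⟨r, hrC⟩)
      convert h1 using 1
      apply Subtype.ext
      simp only [Subgroup.coe_mul, Subgroup.coe_inv]
      rw [hyr, mul_inv_rev, inv_inv]
    have hval := apply_section hM hχ (w := w) ⟨1, by rw [hw2, pow_one]⟩ oddCore_normal
      (fun h => Nat.not_even_iff_odd.2 odd_card_oddCore (even_iff_two_dvd.2 h)) hrO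
    rw [hxy, hval]
    exact CfsgLib.Char.IsClassFunction.apply_eq_of_isConj
      (CfsgLib.Char.IsIrrCharacter.isClassFunction χ.2) hconj.symm
  exact Cfsg.Agent.S0943.result χ u t key

/-- In the critical situation no other involution commutes with `t`. -/
theorem eq_of_commute_involution
    (hIH : ∀ w : G, orderOf w = 2 → StarCentral (Subgroup.centralizer ({w} : Set G)))
    {t : G} (ht : Cfsg.IsIsolatedInvolution t)
    (htop : ∀ N : Subgroup G, N.Normal → t ∈ N → N = ⊤)
    {u : G} (hu : orderOf u = 2) (hut : Commute u t) : u = t := by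
  by_contra hne
  cases nonempty_fintype G
  obtain ⟨M, hM⟩ := CfsgLib.Blocks.exists_isPModular Nat.prime_two
  have hut2 : orderOf (u * t) = 2 := orderOf_eq_two
    (by rw [mul_assoc, ← mul_assoc t, ← hut.eq, mul_assoc u t t, mul_self ht.1, mul_one,
      mul_self hu])
    (fun h => hne (by rw [eq_inv_of_mul_eq_one_left h, inv_eq ht.1]))
  have hutt : Commute (u * t) t := hut.mul_left (Commute.refl t)
  have hutne : u * t ≠ t := fun h => Dihedral.ne_one hu (mul_eq_right.1 h)
  have huu : u * t * t = u := by rw [mul_assoc, mul_self ht.1, mul_one]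
  have heq : ∀ χ ∈ principalBlock M G,
      (χ : G → ℂ) u * (χ : G → ℂ) t = (χ : G → ℂ) 1 * (χ : G → ℂ) (u * t) ∧
      (χ : G → ℂ) (u * t) * (χ : G → ℂ) t = (χ : G → ℂ) 1 * (χ : G → ℂ) u := fun χ hχ =>
    ⟨apply_mul_apply hM hIH hχ hu ht hut hne, by
      have := apply_mul_apply hM hIH hχ hut2 ht hutt hutne
      rwa [huu] at this⟩
  have hcases : ∀ χ ∈ principalBlock M G, ((χ : G → ℂ) u ≠ 0 ∨ (χ : G → ℂ) (u * t) ≠ 0) →
      ∃ φ : G →* ℂˣ, (χ : G → ℂ) = fun g => (φ g : ℂ) := by
    intro χ hχ h0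
    obtain ⟨e1, e2⟩ := heq χ hχ
    have h1 : (χ : G → ℂ) 1 ≠ 0 := CfsgLib.Blocks.irr_one_ne_zero χ
    have hu0 : (χ : G → ℂ) u ≠ 0 := by
      intro hz
      rw [hz, zero_mul, eq_comm, mul_eq_zero] at e1
      exact h0.elim (fun h => h hz) (fun h => h (e1.resolve_left h1))
    refine linear_of_sq_eq htop χ ?_
    refine mul_left_cancel₀ hu0 ?_
    linear_combination (χ : G → ℂ) t * e1 + (χ : G → ℂ) 1 * e2
  -- a homomorphism trivial at `t` is trivial
  have hkill : ∀ φ : G →* ℂˣ, φ t = 1 → φ = 1 := fun φ hφ => by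
    have := htop φ.ker (MonoidHom.normal_ker φ) hφ
    exact MonoidHom.ext fun g => (this ▸ Subgroup.mem_top g : g ∈ φ.ker)
  have hsign : ∀ φ : G →* ℂˣ, φ ≠ 1 → φ t = -1 := by
    intro φ hφ
    have h1 : ((φ t : ℂ) - 1) * ((φ t : ℂ) + 1) = 0 := by
      have : (φ t : ℂ) * (φ t : ℂ) = 1 := by
        rw [← Units.val_mul, ← map_mul, mul_self ht.1, map_one, Units.val_one]
      linear_combination this
    rcases mul_eq_zero.1 h1 with h2 | h2
    · exact absurd (hkill φ (Units.ext (sub_eq_zero.1 h2))) hφ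
    · exact Units.ext (by rw [Units.val_neg, Units.val_one]; exact eq_neg_of_add_eq_zero_left h2)
  have hsame : ∀ φ ψ : G →* ℂˣ, φ ≠ 1 → ψ ≠ 1 → φ = ψ := by
    intro φ ψ hφ hψ
    have h1 := hkill (φ * ψ⁻¹) (by simp [hsign φ hφ, hsign ψ hψ])
    exact mul_inv_eq_one.1 h1
  set T := CfsgLib.Blocks.trivChar G with hT
  have hTB : T ∈ (principalBlock M G).toFinset :=
    Set.mem_toFinset.2 (CfsgLib.Blocks.trivChar_mem_principalBlock hM)
  have hsum : ∀ v : G, orderOf v = 2 →
      ∑ χ ∈ (principalBlock M G).toFinset.erase T, (χ : G → ℂ) 1 * (χ : G → ℂ) v = -1 := by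
    intro v hv
    have h1 := sum_degree_mul_eq_zero hM (CfsgLib.Blocks.isPBlock_principalBlock (G := G)) (g := v)
      (by rw [hv])
    rw [← Finset.add_sum_erase _ _ hTB] at h1
    simp only [hT, CfsgLib.Blocks.trivChar_apply, one_mul] at h1
    linear_combination h1
  have hneT : ∀ (χ : IrrCharacter G) (φ : G →* ℂˣ), χ ≠ T →
      (χ : G → ℂ) = (fun g => (φ g : ℂ)) → φ ≠ 1 := fun χ φ hχ he h1 =>
    hχ (Subtype.ext (by rw [he, h1]; funext g; simp [hT]))
  by_cases hex : ∃ χ ∈ (principalBlock M G).toFinset.erase T,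
      (χ : G → ℂ) u ≠ 0 ∨ (χ : G → ℂ) (u * t) ≠ 0
  · obtain ⟨L, hL, hL0⟩ := hex
    rw [Finset.mem_erase, Set.mem_toFinset] at hL
    obtain ⟨φ, hφ⟩ := hcases L hL.2 hL0
    have hφ1 := hneT L φ hL.1 hφ
    have honly : ∀ v : G, (v = u ∨ v = u * t) →
        ∑ χ ∈ (principalBlock M G).toFinset.erase T, (χ : G → ℂ) 1 * (χ : G → ℂ) v = (φ v : ℂ) := by
      intro v hv
      rw [Finset.sum_eq_single L]
      · rw [hφ]; simp
      · intro χ hχ hχL
        rw [Finset.mem_erase, Set.mem_toFinset] at hχ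
        by_contra hne0
        have hv0 : (χ : G → ℂ) v ≠ 0 := right_ne_zero_of_mul hne0
        obtain ⟨ψ, hψ⟩ := hcases χ hχ.2 (by
          rcases hv with rfl | rfl
          · exact Or.inl hv0
          · exact Or.inr hv0)
        exact hχL (Subtype.ext (by rw [hψ, hφ, hsame ψ φ (hneT χ ψ hχ.1 hψ) hφ1]))
      · intro h; exact absurd (Finset.mem_erase.2 ⟨hL.1, Set.mem_toFinset.2 hL.2⟩) h
    have a1 := (honly u (Or.inl rfl)).symm.trans (hsum u hu)
    have a2 := (honly (u * t) (Or.inr rfl)).symm.trans (hsum (u * t) hut2)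
    rw [map_mul, Units.val_mul, a1, hsign φ hφ1, Units.val_neg, Units.val_one] at a2
    norm_num at a2
  · push Not at hex
    have h1 := hsum u hu
    rw [Finset.sum_eq_zero fun χ hχ => by rw [(hex χ hχ).1, mul_zero]] at h1
    norm_num at h1

end CfsgLib.Involution.ZStar
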